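import Cfsg.Agent.GH.L2AutD
import Cfsg.Agent.GH.L2AutOut
import Cfsg.Agent.GH.L2AutH90
import Cfsg.Agent.LieRecognition.FieldSemilinear

/-!
# Involutions of `Aut(L)`, `L ≅ PSL(2,F)`: two facts for THEOREM SL

* `Rep.outer_mul_mem` (O): the product of two commuting involutions of `Aut(L) ∖ Inn(L)` is inner;
* `Rep.exists_fix_not_comm` : an involution `β` of `Aut(L)` fixing the involution `z` of `L`, `β ≠ conj z`, fixes an
  element of `L` not commuting with `z` (`|F| ≥ 7`).
-/

set_option autoImplicit false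

namespace Cfsg.Agent.UGT.SL

open Matrix Cfsg.Agent.Lib.SL2Mat Cfsg.Agent.Lib.AutSL2 Cfsg.Agent.Lib.AutSL2Out
open Cfsg.Agent.GH.L2Aut

/-- `Aut(F)` has at most one involution. -/
theorem ringAut_involution_unique {F : Type*} [Field F] [Finite F] {σ τ : F ≃+* F}
    (hσ : σ * σ = 1) (hτ : τ * τ = 1) (hσ1 : σ ≠ 1) (hτ1 : τ ≠ 1) : σ = τ := by
  classical
  have : IsCyclic (F ≃+* F) := Cfsg.Agent.LieRecognition.FieldSemilinear.isCyclic_ringAut F
  have : Finite (F ≃+* F) := finite_ringEquiv
  let _ := Fintype.ofFinite (F ≃+* F)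
  by_contra hne
  have h1 := IsCyclic.card_pow_eq_one_le (α := F ≃+* F) (n := 2) (by norm_num)
  have h3 : ({1, σ, τ} : Finset (F ≃+* F)) ⊆ Finset.univ.filter (fun a => a ^ 2 = 1) := by
    intro x hx
    simp only [Finset.mem_insert, Finset.mem_singleton] at hx
    rw [Finset.mem_filter]
    refine ⟨Finset.mem_univ _, ?_⟩
    rcases hx with rfl | rfl | rfl
    · exact one_pow _
    · rw [sq, hσ]
    · rw [sq, hτ]
  have h4 := Finset.card_le_card h3
  have h5 : ({1, σ, τ} : Finset (F ≃+* F)).card = 3 := by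
    rw [Finset.card_insert_of_notMem, Finset.card_insert_of_notMem, Finset.card_singleton]
    · rw [Finset.mem_singleton]; exact hne
    · simp only [Finset.mem_insert, Finset.mem_singleton, not_or]
      exact ⟨hσ1.symm, hτ1.symm⟩
  omega

variable {F : Type*} [Field F] [Finite F] {L : Type*} [Group L] (R : Cfsg.Agent.GH.L2Aut.Rep F L)

local notation "SL2" => Matrix.SpecialLinearGroup (Fin 2) F
local notation "M2" => Matrix (Fin 2) (Fin 2) F

include R in
/-- **(O)** two commuting involutions of `Aut(L) ∖ Inn(L)` have product in `Inn(L)`. -/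
theorem outer_mul_mem {α β : MulAut L} (hα : α * α = 1) (hβ : β * β = 1) (hc : α * β = β * α)
    (h1 : α ∉ Inn L) (h2 : β ∉ Inn L) : α * β ∈ Inn L := by
  by_cases hfα : R.fld α = 1
  · by_cases hfβ : R.fld β = 1
    · exact R.mul_mem_inn (R.mem_PGL_iff_fld.2 hfα) h1 (R.mem_PGL_iff_fld.2 hfβ) h2
    · exact absurd (R.mem_inn_iff.2 ⟨hfα, R.o1_of_comm hβ hfβ hc⟩) h1
  · by_cases hfβ : R.fld β = 1
    · exact absurd (R.mem_inn_iff.2 ⟨hfβ, R.o1_of_comm hα hfα hc.symm⟩) h2
    · have h3 : R.fld α = R.fld β :=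
        ringAut_involution_unique (by rw [← map_mul, hα, map_one])
          (by rw [← map_mul, hβ, map_one]) hfα hfβ
      rw [R.mem_inn_iff]
      constructor
      · rw [map_mul, h3, ← map_mul, hβ, map_one]
      · rw [map_mul, R.o1_of_sq hα hfα, R.o1_of_sq hβ hfβ, one_mul]

/-- a parameter off finitely many bad values -/
theorem exists_param (hq : 7 ≤ Nat.card F) (δ : F) :
    ∃ t : F, t ≠ 0 ∧ 1 + δ * t ^ 2 ≠ 0 ∧ 1 - δ * t ^ 2 ≠ 0 := by
  classical
  let _ := Fintype.ofFinite F
  rw [Nat.card_eq_fintype_card] at hq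
  by_cases hδ : δ = 0
  · exact ⟨1, one_ne_zero, by rw [hδ]; simp, by rw [hδ]; simp⟩
  -- the bad values are roots of `X (1 - δ² X⁴)`
  have key : ∀ t : F, t = 0 ∨ 1 + δ * t ^ 2 = 0 ∨ 1 - δ * t ^ 2 = 0 → (t : F) ^ 5 * δ ^ 2 - t = 0 := by
    intro t ht
    rcases ht with h | h | h
    · rw [h]; ring
    · linear_combination (-(t * (1 - δ * t ^ 2))) * h
    · linear_combination (-(t * (1 + δ * t ^ 2))) * h
  by_contra hcon
  push Not at hcon
  have hall : ∀ t : F, (t : F) ^ 5 * δ ^ 2 - t = 0 := by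
    intro t
    apply key
    by_cases h1 : t = 0
    · exact Or.inl h1
    by_cases h2 : 1 + δ * t ^ 2 = 0
    · exact Or.inr (Or.inl h2)
    exact Or.inr (Or.inr (hcon t h1 h2))
  let P : Polynomial F := Polynomial.C (δ ^ 2) * Polynomial.X ^ 5 - Polynomial.X
  have hdeg : P.natDegree = 5 := by
    have h1 : (Polynomial.X : Polynomial F).natDegree < (Polynomial.C (δ ^ 2) * Polynomial.X ^ 5).natDegree := by
      rw [Polynomial.natDegree_C_mul_X_pow _ _ (pow_ne_zero 2 hδ), Polynomial.natDegree_X]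
      norm_num
    rw [Polynomial.natDegree_sub_eq_left_of_natDegree_lt h1,
      Polynomial.natDegree_C_mul_X_pow _ _ (pow_ne_zero 2 hδ)]
  have hP : P ≠ 0 := by
    intro h
    rw [h, Polynomial.natDegree_zero] at hdeg
    omega
  have h3 : (Finset.univ : Finset F) ⊆ P.roots.toFinset := by
    intro t _
    rw [Multiset.mem_toFinset, Polynomial.mem_roots hP, Polynomial.IsRoot]
    simp only [P, Polynomial.eval_sub, Polynomial.eval_mul, Polynomial.eval_C, Polynomial.eval_pow,
      Polynomial.eval_X]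
    linear_combination hall t
  have h4 := Finset.card_le_card h3
  have h5 := Multiset.toFinset_card_le P.roots
  have h6 := Polynomial.card_roots' P
  rw [Finset.card_univ] at h4
  omega

/-- in the torus of the trace zero matrix `g` there is an element commuting with no `i` anticommuting with `g` -/
theorem exists_torus (h2 : (2 : F) ≠ 0) (hq : 7 ≤ Nat.card F) {g : M2} (htr : g.trace = 0)
    (hg : g.det ≠ 0) : ∃ s : SL2, s.1 * g = g * s.1 ∧ ∀ i : GL (Fin 2) F, i.1 * g = -(g * i.1) →
      s.1 * i.1 ≠ i.1 * s.1 ∧ s.1 * i.1 ≠ -(i.1 * s.1) := by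
  obtain ⟨t, ht, ht1, ht2⟩ := exists_param hq g.det
  obtain ⟨a, ha⟩ : ∃ a : F, a = (1 - g.det * t ^ 2) / (1 + g.det * t ^ 2) := ⟨_, rfl⟩
  obtain ⟨b, hb⟩ : ∃ b : F, b = 2 * t / (1 + g.det * t ^ 2) := ⟨_, rfl⟩
  have ha0 : a ≠ 0 := by rw [ha]; exact div_ne_zero ht2 ht1
  have hb0 : b ≠ 0 := by rw [hb]; exact div_ne_zero (mul_ne_zero h2 ht) ht1
  have hab : a ^ 2 + g.det * b ^ 2 = 1 := by
    rw [ha, hb]
    field_simp
    ring
  have hdet : (a • (1 : M2) + b • g).det = 1 := by
    rw [← hab]
    rw [Matrix.trace_fin_two] at htr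
    have h3 : g 1 1 = -g 0 0 := by linear_combination htr
    rw [Matrix.det_fin_two, Matrix.det_fin_two g]
    simp
    rw [h3]
    ring
  refine ⟨⟨_, hdet⟩, ?_, ?_⟩
  · change (a • (1 : M2) + b • g) * g = g * (a • (1 : M2) + b • g)
    rw [Matrix.add_mul, Matrix.mul_add, Matrix.smul_mul, Matrix.smul_mul, Matrix.mul_smul,
      Matrix.mul_smul, Matrix.one_mul, Matrix.mul_one]
  · intro i hi
    have hcancel : ∀ (c : F) (m : M2), m.det ≠ 0 → c • m = 0 → c = 0 := by
      intro c m hm h
      by_contra hc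
      apply hm
      have h5 : m = 0 := by
        have := congrArg (fun x => c⁻¹ • x) h
        simpa [smul_smul, inv_mul_cancel₀ hc] using this
      rw [h5]
      simp
    have hi0 : i.1.det ≠ 0 := (Matrix.GeneralLinearGroup.det i).ne_zero
    have hgi : g * i.1 = -(i.1 * g) := by rw [hi, neg_neg]
    constructor
    · intro h
      change (a • (1 : M2) + b • g) * i.1 = i.1 * (a • (1 : M2) + b • g) at h
      rw [Matrix.add_mul, Matrix.mul_add, Matrix.smul_mul, Matrix.smul_mul, Matrix.mul_smul,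
        Matrix.mul_smul, Matrix.one_mul, Matrix.mul_one, hgi] at h
      have h3 := add_left_cancel h
      have h4 : (2 * b) • (i.1 * g) = 0 := by
        rw [two_mul, add_smul]
        nth_rw 1 [← h3]
        rw [smul_neg, neg_add_cancel]
      have h5 := hcancel _ _ (by rw [Matrix.det_mul]; exact mul_ne_zero hi0 hg) h4
      exact (mul_ne_zero h2 hb0) h5
    · intro h
      change (a • (1 : M2) + b • g) * i.1 = -(i.1 * (a • (1 : M2) + b • g)) at h
      rw [Matrix.add_mul, Matrix.mul_add, Matrix.smul_mul, Matrix.smul_mul, Matrix.mul_smul,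
        Matrix.mul_smul, Matrix.one_mul, Matrix.mul_one, hgi, neg_add, smul_neg] at h
      have h3 := add_right_cancel h
      have h4 : (2 * a) • i.1 = 0 := by
        rw [two_mul, add_smul]
        nth_rw 1 [h3]
        rw [neg_add_cancel]
      have h5 := hcancel _ _ hi0 h4
      exact (mul_ne_zero h2 ha0) h5

include R in
theorem exists_fix_of_linear (hq : 7 ≤ Nat.card F) {z : L} (hz : z * z = 1) (hz1 : z ≠ 1)
    {β : MulAut L} (hβ : β * β = 1) (hβ1 : β ≠ 1) (hβz : β ≠ MulAut.conj z) (hfix : β z = z)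
    (hf : R.fld β = 1) : ∃ x : L, β x = x ∧ x * z ≠ z * x := by
  obtain ⟨g, rfl⟩ := R.mem_PGL.1 (R.mem_PGL_iff_fld.2 hf)
  have hs := R.not_scalar_of_ne hβ1
  have htr := R.tr_of_inv hβ1 hβ
  have hg0 : g.1.det ≠ 0 := (Matrix.GeneralLinearGroup.det g).ne_zero
  obtain ⟨i, rfl, hi⟩ := R.exists_inv_lift hz hz1
  have hcomm : R.gl (Matrix.SpecialLinearGroup.toGL i) * R.gl g =
      R.gl g * R.gl (Matrix.SpecialLinearGroup.toGL i) := by
    rw [← R.conj_π, Cfsg.Agent.GH.L2Aut.Rep.conj_comm_iff, hfix]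
  have hanti : (Matrix.SpecialLinearGroup.toGL i).1 * g.1 = -(g.1 * (Matrix.SpecialLinearGroup.toGL i).1) := by
    rcases R.comm_cases hcomm with h | h
    · exfalso
      rcases R.torus_inv hs htr h.symm (by rw [← R.conj_π, ← map_mul, hz, map_one]) with h3 | h3
      · rw [← R.conj_π] at h3
        exact hz1 (R.conj_injective (by rw [h3, map_one]))
      · rw [← R.conj_π] at h3
        exact hβz h3.symm
    · exact h
  obtain ⟨s, hs1, hs2⟩ := exists_torus R.two hq htr hg0
  obtain ⟨h3, h4⟩ := hs2 _ hanti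
  refine ⟨R.π s, ?_, ?_⟩
  · rw [R.gl_apply]
    congr 1
    exact conjGL_eq_of hs1.symm
  · intro h
    rw [← map_mul, ← map_mul, R.π_eq_iff] at h
    rcases h with h | h
    · exact h3 (congrArg Subtype.val h)
    · exact h4 (congrArg Subtype.val h)

include R in
theorem exists_fix_of_field {z : L} (hz : z * z = 1) (hz1 : z ≠ 1) {β : MulAut L} (hβ : β * β = 1)
    (hf : R.fld β ≠ 1) : ∃ x : L, β x = x ∧ x * z ≠ z * x := by
  have hord : orderOf (R.fld β) = 2 := orderOf_eq_prime (by rw [sq, ← map_mul, hβ, map_one]) hf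
  obtain ⟨h, hh⟩ := R.exists_field β (by rw [hord, sq, hβ])
  obtain ⟨σ, hσ⟩ : ∃ σ, σ = R.fld β := ⟨_, rfl⟩
  rw [← hσ] at hh
  obtain ⟨w, hw⟩ : ∃ w, w = (R.gl h)⁻¹ z := ⟨_, rfl⟩
  have hw' : R.gl h w = z := by rw [hw, MulAut.apply_inv_self]
  have hww : w * w = 1 := (R.gl h).injective (by rw [map_mul, hw', hz, map_one])
  have hw1 : w ≠ 1 := by
    rintro rfl
    rw [map_one] at hw'
    exact hz1 hw'.symm
  obtain ⟨i, rfl, hi⟩ := R.exists_inv_lift hww hw1
  have key : ∃ x : SL2, fieldAut σ x = x ∧ R.π x * R.π i ≠ R.π i * R.π x := by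
    by_contra hcon
    push Not at hcon
    have hup := hcon (up 1) (by refine ext_ent ?_ ?_ ?_ ?_ <;> simp)
    have hlo := hcon (lo 1) (by refine ext_ent ?_ ?_ ?_ ?_ <;> simp)
    rw [← map_mul, ← map_mul, R.π_eq_iff] at hup hlo
    have h2 := R.two
    have hneg : ∀ (x : SL2) (k l : Fin 2), ent (-x) k l = -ent x k l := fun _ _ _ => rfl
    have hii : i * i = -1 := Subtype.ext hi
    have e00 := congrArg (fun y => ent y 0 0) hii
    have e11 := congrArg (fun y => ent y 1 1) hii
    have hd := det_eq i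
    simp only [ent_mul, hneg, ent_one_00, ent_one_11] at e00 e11
    rcases hup with hup | hup
    · have u00 := congrArg (fun y => ent y 0 0) hup
      have u01 := congrArg (fun y => ent y 0 1) hup
      simp only [ent_mul, up_00, up_01, up_10, up_11] at u00 u01
      rcases hlo with hlo | hlo
      · have l00 := congrArg (fun y => ent y 0 0) hlo
        simp only [ent_mul, lo_00, lo_01, lo_10, lo_11] at l00
        have h10 : ent i 1 0 = 0 := by linear_combination u00
        have h01 : ent i 0 1 = 0 := by linear_combination -l00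
        have h3 : ent i 1 1 = ent i 0 0 := by linear_combination u01
        rw [h01, zero_mul, sub_zero, h3] at hd
        rw [h01, zero_mul, add_zero] at e00
        apply h2
        linear_combination e00 - hd
      · have l00 := congrArg (fun y => ent y 0 0) hlo
        have l01 := congrArg (fun y => ent y 0 1) hlo
        simp only [ent_mul, hneg, lo_00, lo_01, lo_10, lo_11] at l00 l01
        have h10 : ent i 1 0 = 0 := by linear_combination u00
        have h01 : 2 * ent i 0 1 = 0 := by linear_combination l01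
        have h01' : ent i 0 1 = 0 := (mul_eq_zero.1 h01).resolve_left h2
        have h00 : 2 * ent i 0 0 = 0 := by linear_combination l00 - h01'
        have h00' : ent i 0 0 = 0 := (mul_eq_zero.1 h00).resolve_left h2
        rw [h00', h01'] at hd
        apply one_ne_zero (α := F)
        linear_combination -hd
    · have u10 := congrArg (fun y => ent y 1 0) hup
      have u00 := congrArg (fun y => ent y 0 0) hup
      simp only [ent_mul, hneg, up_00, up_01, up_10, up_11] at u10 u00
      have h10 : 2 * ent i 1 0 = 0 := by linear_combination u10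
      have h10' : ent i 1 0 = 0 := (mul_eq_zero.1 h10).resolve_left h2
      have h00 : 2 * ent i 0 0 = 0 := by linear_combination u00 - h10'
      have h00' : ent i 0 0 = 0 := (mul_eq_zero.1 h00).resolve_left h2
      rw [h00', h10'] at hd
      apply one_ne_zero (α := F)
      linear_combination -hd
  obtain ⟨x, hx, hxc⟩ := key
  refine ⟨R.gl h (R.π x), ?_, ?_⟩
  · rw [hh, MulAut.mul_apply, MulAut.inv_apply_self, MulAut.mul_apply, R.fa_apply, hx]
  · intro h3
    apply hxc
    apply (R.gl h).injective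
    rw [map_mul, map_mul, hw', h3]

include R in
/-- an involution `β ≠ conj z` of `Aut(L)` fixing the involution `z` fixes an element not commuting with `z` -/
theorem exists_fix_not_comm (hq : 7 ≤ Nat.card F) {z : L} (hz : z * z = 1) (hz1 : z ≠ 1)
    {β : MulAut L} (hβ : β * β = 1) (hβ1 : β ≠ 1) (hβz : β ≠ MulAut.conj z) (hfix : β z = z) :
    ∃ x : L, β x = x ∧ x * z ≠ z * x := by
  by_cases hf : R.fld β = 1
  · exact exists_fix_of_linear R hq hz hz1 hβ hβ1 hβz hfix hf
  · exact exists_fix_of_field R hz hz1 hβ hf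

end Cfsg.Agent.UGT.SL
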