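import Cfsg.Agent.UGT.SL.FactsL2
import Cfsg.Agent.S0811
import Cfsg.Agent.S0812

/-!
# (Gam) for `L ≅ PSL(2,F)`, `|F| ≥ 11` odd

* `cent_coatom` : the centralizer of an involution is a maximal subgroup of `L`;
* `gam_pair`, `gam` : a four-group `B ≤ Aut(L)` : a subgroup of `L` containing all fixed points of the involutions of
  `B` is `L`.
-/

set_option autoImplicit false

namespace Cfsg.Agent.UGT.SL

open Matrix Cfsg.Agent.Lib.SL2Mat Cfsg.Agent.Lib.AutSL2 Cfsg.Agent.Lib.AutSL2Out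
open Cfsg.Agent.GH.L2Aut

variable {F : Type*} [Field F] {L : Type*} [Group L]

/-- the isomorphism of a representation -/
noncomputable def toEquiv (R : Cfsg.Agent.GH.L2Aut.Rep F L) :
    L ≃* Matrix.ProjectiveSpecialLinearGroup (Fin 2) F :=
  (QuotientGroup.quotientKerEquivOfSurjective R.π R.surj).symm.trans
    (QuotientGroup.quotientMulEquivOfEq (by
      ext x
      rw [MonoidHom.mem_ker, R.ker, mem_center_iff R.two]))

theorem dihedral_central (k : ℕ) (x : DihedralGroup (2 * k)) :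
    DihedralGroup.r (k : ZMod (2 * k)) * x = x * DihedralGroup.r (k : ZMod (2 * k)) := by
  have h : (k : ZMod (2 * k)) + k = 0 := by
    have h1 : ((2 * k : ℕ) : ZMod (2 * k)) = 0 := ZMod.natCast_self _
    rw [← h1]; push_cast; ring
  rcases x with i | i
  · rw [DihedralGroup.r_mul_r, DihedralGroup.r_mul_r, add_comm]
  · rw [DihedralGroup.r_mul_sr, DihedralGroup.sr_mul_r]
    congr 1
    linear_combination (-1 : ZMod (2 * k)) * h

theorem dihedral_sq (k : ℕ) :
    (DihedralGroup.r (k : ZMod (2 * k)) : DihedralGroup (2 * k)) * DihedralGroup.r (k : ZMod (2 * k)) = 1 := by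
  have h : (k : ZMod (2 * k)) + k = 0 := by
    have h1 : ((2 * k : ℕ) : ZMod (2 * k)) = 0 := ZMod.natCast_self _
    rw [← h1]; push_cast; ring
  rw [DihedralGroup.r_mul_r, h, DihedralGroup.r_zero]

theorem dihedral_ne {k : ℕ} (hk : 0 < k) :
    (DihedralGroup.r (k : ZMod (2 * k)) : DihedralGroup (2 * k)) ≠ 1 := by
  rw [← DihedralGroup.r_zero]
  intro h
  have h1 : (k : ZMod (2 * k)) = 0 := DihedralGroup.r.inj h
  rw [ZMod.natCast_eq_zero_iff] at h1
  have := Nat.le_of_dvd hk h1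
  omega

theorem exists_coatom [Finite F] (R : Cfsg.Agent.GH.L2Aut.Rep F L) (hq : 11 ≤ Nat.card F) :
    ∃ H : Subgroup L, IsCoatom H ∧ ∃ k : ℕ, 0 < k ∧ Nonempty (H ≃* DihedralGroup (2 * k)) := by
  let _ := Fintype.ofFinite F
  rw [Nat.card_eq_fintype_card] at hq
  have hodd : Odd (Fintype.card F) := by
    by_contra hcon
    rw [Nat.not_odd_iff_even, even_iff_two_dvd] at hcon
    have hp := CharP.exists F
    obtain ⟨p, hp⟩ := hp
    have hpp : p.Prime := CharP.char_is_prime F p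
    obtain ⟨n, _, hn⟩ := FiniteField.card F p
    rw [hn] at hcon
    have h3 : 2 ∣ p := Nat.prime_two.dvd_of_dvd_pow hcon
    have h4 : 2 = p := (Nat.prime_dvd_prime_iff_eq Nat.prime_two hpp).1 h3
    subst h4
    apply R.two
    exact_mod_cast CharP.cast_eq_zero F 2
  have key : ∃ H : Subgroup (Matrix.ProjectiveSpecialLinearGroup (Fin 2) F), IsCoatom H ∧
      ∃ k : ℕ, 0 < k ∧ Nonempty (H ≃* DihedralGroup (2 * k)) := by
    have hgcd : Nat.gcd 2 (Fintype.card F - 1) = 2 := by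
      apply Nat.gcd_eq_left
      rw [← even_iff_two_dvd]
      obtain ⟨m, hm⟩ := hodd
      exact ⟨m, by omega⟩
    obtain ⟨m, hm⟩ := hodd
    rcases Nat.even_or_odd m with ⟨n, hn⟩ | ⟨n, hn⟩
    · obtain ⟨H, h1, h2⟩ := Cfsg.Agent.S0812.result (F := F) rfl (by
        simp only [Finset.mem_insert, Finset.mem_singleton, not_or]
        omega)
      refine ⟨H, h1, n, by omega, ?_⟩
      have h3 : (Fintype.card F - 1) / Nat.gcd 2 (Fintype.card F - 1) = 2 * n := by
        rw [hgcd]; omega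
      rw [← h3]; exact h2
    · obtain ⟨H, h1, h2⟩ := Cfsg.Agent.S0811.result (F := F) rfl (by
        simp only [Finset.mem_insert, Finset.mem_singleton, not_or]
        omega)
      refine ⟨H, h1, n + 1, by omega, ?_⟩
      have h3 : (Fintype.card F + 1) / Nat.gcd 2 (Fintype.card F - 1) = 2 * (n + 1) := by
        rw [hgcd]; omega
      rw [← h3]; exact h2
  obtain ⟨H, h1, k, hk, ⟨e⟩⟩ := key
  let f : L ≃* Matrix.ProjectiveSpecialLinearGroup (Fin 2) F := toEquiv R
  refine ⟨H.map f.symm.toMonoidHom, ?_, k, hk, ⟨(H.equivMapOfInjective _ f.symm.injective).symm.trans e⟩⟩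
  have h3 := (f.symm.mapSubgroup.isCoatom_iff H).2 h1
  exact h3

/-- **the centralizer of an involution of `L` is maximal** -/
theorem cent_coatom [Finite F] (R : Cfsg.Agent.GH.L2Aut.Rep F L) (hq : 11 ≤ Nat.card F) {z : L}
    (hz : z * z = 1) (hz1 : z ≠ 1) : IsCoatom (Subgroup.centralizer ({z} : Set L)) := by
  obtain ⟨H, hH, k, hk, ⟨e⟩⟩ := exists_coatom R hq
  obtain ⟨y, hy⟩ : ∃ y : H, y = e.symm (DihedralGroup.r (k : ZMod (2 * k))) := ⟨_, rfl⟩
  have hyy : (y : L) * y = 1 := by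
    have : y * y = 1 := by rw [hy, ← map_mul, dihedral_sq, map_one]
    exact congrArg Subtype.val this
  have hy1 : (y : L) ≠ 1 := by
    intro h
    have h3 : y = 1 := Subtype.ext h
    rw [hy] at h3
    apply dihedral_ne hk
    apply e.symm.injective
    rw [h3, map_one]
  have hle : H ≤ Subgroup.centralizer ({(y : L)} : Set L) := by
    intro x hx
    rw [Subgroup.mem_centralizer_singleton_iff]
    have h3 : (⟨x, hx⟩ : H) * y = y * ⟨x, hx⟩ := by
      apply e.injective
      rw [map_mul, map_mul, hy, MulEquiv.apply_symm_apply]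
      exact (dihedral_central k _).symm
    exact congrArg Subtype.val h3
  have hne : Subgroup.centralizer ({(y : L)} : Set L) ≠ ⊤ := by
    intro h
    have h3 : (y : L) ∈ Subgroup.center L := by
      rw [Subgroup.mem_center_iff]
      intro g
      have : g ∈ Subgroup.centralizer ({(y : L)} : Set L) := by rw [h]; trivial
      exact Subgroup.mem_centralizer_singleton_iff.1 this
    rw [R.center_eq_bot, Subgroup.mem_bot] at h3
    exact hy1 h3
  have hHe : Subgroup.centralizer ({(y : L)} : Set L) = H := (hH.le_iff_eq hne).1 hle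
  obtain ⟨g, hg⟩ := R.inv_conj hyy hy1 hz hz1
  have h3 := (((MulAut.conj g : MulAut L) : L ≃* L).mapSubgroup.isCoatom_iff H).2 hH
  have h4 : ((MulAut.conj g : MulAut L) : L ≃* L).mapSubgroup H =
      Subgroup.centralizer ({z} : Set L) := by
    rw [← hHe]
    ext x
    rw [MulEquiv.coe_mapSubgroup, Subgroup.mem_map_equiv, Subgroup.mem_centralizer_singleton_iff,
      Subgroup.mem_centralizer_singleton_iff, ← hg]
    change g⁻¹ * x * g * y = y * (g⁻¹ * x * g) ↔ _
    constructor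
    · intro h
      calc x * (g * y * g⁻¹) = g * (g⁻¹ * x * g * y) * g⁻¹ := by group
        _ = g * (y * (g⁻¹ * x * g)) * g⁻¹ := by rw [h]
        _ = g * y * g⁻¹ * x := by group
    · intro h
      calc g⁻¹ * x * g * y = g⁻¹ * (x * (g * y * g⁻¹)) * g := by group
        _ = g⁻¹ * (g * y * g⁻¹ * x) * g := by rw [h]
        _ = y * (g⁻¹ * x * g) := by group
  rw [← h4]
  exact h3

/-- **(Gam)** for two commuting involutions `α ≠ β` of `Aut(L)` -/
theorem gam_pair [Finite F] (R : Cfsg.Agent.GH.L2Aut.Rep F L) (hq : 11 ≤ Nat.card F) {α β : MulAut L}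
    (hα : α * α = 1) (hβ : β * β = 1) (hα1 : α ≠ 1) (hβ1 : β ≠ 1) (hne : α ≠ β)
    (hc : α * β = β * α) (H : Subgroup L) (h1 : ∀ x, α x = x → x ∈ H) (h2 : ∀ x, β x = x → x ∈ H)
    (h3 : ∀ x, α (β x) = x → x ∈ H) : H = ⊤ := by
  -- the case of an inner element
  have key : ∀ (z : L) (γ : MulAut L), z * z = 1 → z ≠ 1 → γ * γ = 1 → γ ≠ 1 → γ ≠ MulAut.conj z →
      γ z = z → (∀ x, x * z = z * x → x ∈ H) → (∀ x, γ x = x → x ∈ H) → H = ⊤ := by
    intro z γ hz hz1 hγ hγ1 hγz hfix hz2 hγ2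
    obtain ⟨x, hx, hx2⟩ := exists_fix_not_comm R (by omega) hz hz1 hγ hγ1 hγz hfix
    have hco := cent_coatom R hq hz hz1
    have hle : Subgroup.centralizer ({z} : Set L) ≤ H := fun y hy =>
      hz2 y (Subgroup.mem_centralizer_singleton_iff.1 hy)
    by_contra hH
    have h4 := (hco.le_iff_eq hH).1 hle
    apply hx2
    apply Subgroup.mem_centralizer_singleton_iff.1
    rw [← h4]
    exact hγ2 x hx
  have hinn : ∀ γ δ : MulAut L, γ ∈ Inn L → γ * γ = 1 → γ ≠ 1 → δ * δ = 1 → δ ≠ 1 → δ ≠ γ →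
      γ * δ = δ * γ → (∀ x, γ x = x → x ∈ H) → (∀ x, δ x = x → x ∈ H) → H = ⊤ := by
    intro γ δ hγI hγ hγ1 hδ hδ1 hne' hc' hf1 hf2
    obtain ⟨z, hz, rfl⟩ := R.inn_inv hγI hγ
    have hz1 : z ≠ 1 := by
      rintro rfl
      exact hγ1 (map_one _)
    refine key z δ hz hz1 hδ hδ1 hne' ?_ ?_ hf2
    · apply R.conj_injective
      exact (Cfsg.Agent.GH.L2Aut.Rep.conj_comm_iff).1 hc'
    · intro x hx
      apply hf1
      rw [MulAut.conj_apply, ← hx, mul_inv_cancel_right]
  have hαβ : (α * β) * (α * β) = 1 := by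
    calc (α * β) * (α * β) = α * (β * α) * β := by group
      _ = α * (α * β) * β := by rw [hc]
      _ = (α * α) * (β * β) := by group
      _ = 1 := by rw [hα, hβ, one_mul]
  have hαβ1 : α * β ≠ 1 := by
    intro h
    apply hne
    calc α = α * (β * β) := by rw [hβ, mul_one]
      _ = (α * β) * β := by group
      _ = β := by rw [h, one_mul]
  by_cases hI : α ∈ Inn L
  · exact hinn α β hI hα hα1 hβ hβ1 (Ne.symm hne) hc h1 h2
  · by_cases hI2 : β ∈ Inn L
    · exact hinn β α hI2 hβ hβ1 hα hα1 hne hc.symm h2 h1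
    · have hI3 := outer_mul_mem R hα hβ hc hI hI2
      refine hinn (α * β) α hI3 hαβ hαβ1 hα hα1 ?_ ?_ h3 h1
      · intro h
        exact hβ1 (left_eq_mul.1 h)
      · calc α * β * α = α * (β * α) := by group
          _ = α * (α * β) := by rw [hc]

theorem comm_of_sq {G : Type*} [Group G] {a b : G} (h1 : a * a = 1) (h2 : b * b = 1)
    (h3 : (a * b) * (a * b) = 1) : a * b = b * a := by
  have h4 : a * b = (a * b)⁻¹ := (inv_eq_of_mul_eq_one_left h3).symm
  rw [h4, _root_.mul_inv_rev, inv_eq_of_mul_eq_one_left h1, inv_eq_of_mul_eq_one_left h2]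

/-- **(Gam)** for a four-group of automorphisms -/
theorem gam [Finite F] (R : Cfsg.Agent.GH.L2Aut.Rep F L) (hq : 11 ≤ Nat.card F)
    (B : Subgroup (MulAut L)) (hB : Nat.card B = 4) (hB2 : ∀ b ∈ B, b * b = 1) (H : Subgroup L)
    (hH : ∀ b ∈ B, b ≠ 1 → ∀ x, b x = x → x ∈ H) : H = ⊤ := by
  have hfin : Finite B := Nat.finite_of_card_ne_zero (by omega)
  obtain ⟨a, ha⟩ : ∃ a : B, a ≠ 1 := by
    have : Nontrivial B := Finite.one_lt_card_iff_nontrivial.1 (by omega)
    exact exists_ne 1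
  obtain ⟨b, hb⟩ : ∃ b : B, b ∉ ({1, a} : Set B) := by
    by_contra hcon
    push Not at hcon
    have h1 : Nat.card B ≤ 2 := by
      have h2 : (Set.univ : Set B) ⊆ {1, a} := fun x _ => hcon x
      have h3 := Set.ncard_le_ncard h2 (Set.toFinite _)
      rw [Set.ncard_univ] at h3
      exact h3.trans (Set.ncard_insert_le _ _ |>.trans (by rw [Set.ncard_singleton]))
    omega
  simp only [Set.mem_insert_iff, Set.mem_singleton_iff, not_or] at hb
  have hcomm : (a : MulAut L) * b = b * a :=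
    comm_of_sq (hB2 _ a.2) (hB2 _ b.2) (hB2 _ (mul_mem a.2 b.2))
  have ha1 : (a : MulAut L) ≠ 1 := fun h => ha (Subtype.ext h)
  have hb1 : (b : MulAut L) ≠ 1 := fun h => hb.1 (Subtype.ext h)
  have hab : (a : MulAut L) ≠ b := fun h => hb.2 (Subtype.ext h.symm)
  refine gam_pair R hq (hB2 _ a.2) (hB2 _ b.2) ha1 hb1 hab hcomm H (hH _ a.2 ha1) (hH _ b.2 hb1) ?_
  refine hH _ (mul_mem a.2 b.2) ?_
  intro h
  apply hab
  calc (a : MulAut L) = a * (b * b) := by rw [hB2 _ b.2, mul_one]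
    _ = (a * b) * b := by group
    _ = b := by rw [h, one_mul]

end Cfsg.Agent.UGT.SL
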