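import Cfsg.Agent.UGT.SL.GamMod
import Cfsg.Agent.UGT.SLCore
import Cfsg.Agent.TwoFusion.SLTwoFacts

/-!
# Constructors of `SL.Data` for `L/W ≅ PSL(2,F)`, `|F| ≥ 11` odd, and for standard subgroups
-/

set_option autoImplicit false

universe u

namespace Cfsg.Agent.UGT.SL

open Subgroup Cfsg.Agent.GH.L2Aut

section quot

variable {G : Type u} [Group G] {L W : Subgroup G}

theorem simple_of_quot (hn : (W.subgroupOf L).Normal) (hs : IsSimpleGroup (L ⧸ W.subgroupOf L))
    (N : Subgroup G) (hWN : W ≤ N) (hNL : N ≤ L) (hN : ∀ x ∈ L, ∀ n ∈ N, x * n * x⁻¹ ∈ N) :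
    N = W ∨ N = L := by
  have hNn : (N.subgroupOf L).Normal := by
    constructor
    intro n hn' g
    exact hN g g.2 n hn'
  have h1 : ((N.subgroupOf L).map (QuotientGroup.mk' (W.subgroupOf L))).Normal :=
    hNn.map _ (QuotientGroup.mk'_surjective _)
  rcases h1.eq_bot_or_eq_top with h2 | h2
  · left
    refine le_antisymm ?_ hWN
    intro x hx
    have h3 : ((⟨x, hNL hx⟩ : L) : L ⧸ W.subgroupOf L) ∈
        (N.subgroupOf L).map (QuotientGroup.mk' (W.subgroupOf L)) := ⟨⟨x, hNL hx⟩, hx, rfl⟩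
    rw [h2, Subgroup.mem_bot, QuotientGroup.eq_one_iff] at h3
    exact h3
  · right
    refine le_antisymm hNL ?_
    intro x hx
    have h3 : ((⟨x, hx⟩ : L) : L ⧸ W.subgroupOf L) ∈
        (N.subgroupOf L).map (QuotientGroup.mk' (W.subgroupOf L)) := by rw [h2]; trivial
    obtain ⟨y, hy, hyx⟩ := h3
    have h5 : (y : L ⧸ W.subgroupOf L) = ((⟨x, hx⟩ : L) : L ⧸ W.subgroupOf L) := hyx
    rw [QuotientGroup.eq] at h5
    have h6 : (y : G)⁻¹ * x ∈ W := h5
    have h7 : x = (y : G) * ((y : G)⁻¹ * x) := by group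
    rw [h7]
    exact mul_mem hy (hWN h6)

theorem nab_of_quot (hn : (W.subgroupOf L).Normal) {a b : L ⧸ W.subgroupOf L} (hab : a * b ≠ b * a) :
    ¬ ∀ x ∈ L, ∀ y ∈ L, x * y * x⁻¹ * y⁻¹ ∈ W := by
  intro h
  apply hab
  obtain ⟨x, rfl⟩ := QuotientGroup.mk_surjective a
  obtain ⟨y, rfl⟩ := QuotientGroup.mk_surjective b
  rw [← QuotientGroup.mk_mul, ← QuotientGroup.mk_mul, eq_comm, QuotientGroup.eq]
  have h1 := h _ (L.inv_mem x.2) _ (L.inv_mem y.2)
  change ((y : G) * x)⁻¹ * (x * y) ∈ W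
  have h2 : ((y : G) * x)⁻¹ * (x * y) = (x : G)⁻¹ * (y : G)⁻¹ * ((x : G)⁻¹)⁻¹ * ((y : G)⁻¹)⁻¹ := by
    group
  rw [h2]
  exact h1

end quot

/-- **`SL.Data` for `L/W ≅ PSL(2,F)`**, `|F| ≥ 11` odd. -/
theorem Data.of_L2 {G : Type u} [Group G] [Finite G] {M L K W : Subgroup G}
    (LM : L ≤ M) (KM : K ≤ M) (WL : W ≤ L) (WK : W ≤ K) (oddW : Odd (Nat.card W))
    (nW : ∀ m ∈ M, ∀ w ∈ W, m * w * m⁻¹ ∈ W) (nL : ∀ m ∈ M, ∀ x ∈ L, m * x * m⁻¹ ∈ L)
    (nK : ∀ m ∈ M, ∀ x ∈ K, m * x * m⁻¹ ∈ K) (comm : ∀ x ∈ L, ∀ k ∈ K, x * k * x⁻¹ * k⁻¹ ∈ W)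
    (full : ∀ m ∈ M, (∀ x ∈ L, m * x * m⁻¹ * x⁻¹ ∈ W) → m ∈ K)
    {F : Type*} [Field F] [Finite F] (hn : (W.subgroupOf L).Normal)
    (R : Cfsg.Agent.GH.L2Aut.Rep F (L ⧸ W.subgroupOf L)) (hq : 11 ≤ Nat.card F)
    (t1 : ∀ y ∈ K, y * y = 1 → y ≠ 1 → ∀ c : G, c * y = y * c → c ∈ M)
    (t2 : ∀ g : G, g ∉ M → ∀ y ∈ K, y * y = 1 → y ≠ 1 → g * y * g⁻¹ ∉ K)
    (t3 : ∀ g : G, g ∉ M → ∃ x ∈ L, ∀ k ∈ K, g * k * g⁻¹ ∈ M → (g * k * g⁻¹)⁻¹ * x ∉ W)
    (t4 : ∃ a ∈ K, ∃ b ∈ K, a * a = 1 ∧ b * b = 1 ∧ a * b = b * a ∧ a ≠ 1 ∧ b ≠ 1 ∧ a ≠ b) :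
    Data M L K W := by
  have hQfin : Finite (L ⧸ W.subgroupOf L) := R.finite
  have hsimple : IsSimpleGroup (L ⧸ W.subgroupOf L) := by
    let _ := Fintype.ofFinite F
    have h1 := Cfsg.Agent.TwoFusion.SLTwoFacts.isSimpleGroup_psl (F := F)
      (by rw [← Nat.card_eq_fintype_card]; omega)
    exact (toEquiv R).isSimpleGroup
  obtain ⟨a, b, hab⟩ := R.exists_four
  have hninv : ∀ {N : Subgroup G}, (∀ m ∈ M, ∀ x ∈ N, m * x * m⁻¹ ∈ N) → ∀ m ∈ M,
      m ∈ Subgroup.normalizer (N : Set G) := by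
    intro N hN m hm
    rw [Subgroup.mem_normalizer_iff]
    intro x
    constructor
    · exact hN m hm x
    · intro hx
      have h1 := hN m⁻¹ (M.inv_mem hm) _ hx
      have h2 : m⁻¹ * (m * x * m⁻¹) * m⁻¹⁻¹ = x := by group
      rwa [h2] at h1
  exact
    { LM := LM
      KM := KM
      WL := WL
      WK := WK
      oddW := oddW
      nW := nW
      nL := nL
      nK := nK
      comm := comm
      full := full
      t1 := t1
      t2 := t2
      t3 := t3
      t4 := t4
      simple := simple_of_quot hn hsimple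
      nab := by
        -- `L/W` is not commutative: its centre is trivial
        have h1 : ∃ x y : L ⧸ W.subgroupOf L, x * y ≠ y * x := by
          by_contra hcon
          push Not at hcon
          have h2 : a ∈ Subgroup.center (L ⧸ W.subgroupOf L) := by
            rw [Subgroup.mem_center_iff]
            intro g
            exact hcon g a
          rw [R.center_eq_bot, Subgroup.mem_bot] at h2
          exact hab.a1 h2
        obtain ⟨x, y, hxy⟩ := h1
        exact nab_of_quot hn hxy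
      evenL := by
        intro hodd
        have h1 : Nat.card (L ⧸ W.subgroupOf L) ∣ Nat.card L := Subgroup.card_quotient_dvd_card _
        have h2 : orderOf a = 2 := orderOf_eq_prime (by rw [sq, hab.aa]) hab.a1
        have h3 : 2 ∣ Nat.card L := by
          rw [← h2]
          exact (orderOf_dvd_natCard a).trans h1
        exact (Nat.not_even_iff_odd.2 hodd) (even_iff_two_dvd.2 h3)
      gam := by
        intro x hx y hy hxx hyy hxy hxK hyK hxyK
        have hnt : ∀ c ∈ M, c ∉ K → ∃ z ∈ L, z⁻¹ * (c * z * c⁻¹) ∉ W := by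
          intro c hc hcK
          by_contra hcon
          push Not at hcon
          apply hcK
          apply full c hc
          intro z hz
          -- `c z c⁻¹ z⁻¹ = z (z⁻¹ c z c⁻¹) z⁻¹`
          have h1 := nW z (LM hz) _ (hcon z hz)
          have h2 : z * (z⁻¹ * (c * z * c⁻¹)) * z⁻¹ = c * z * c⁻¹ * z⁻¹ := by group
          rwa [h2] at h1
        refine gam_mod hn WL oddW R hq hxx hyy hxy (hninv nL x hx) (hninv nW x hx) (hninv nL y hy)
          (hninv nW y hy) (hnt x hx hxK) (hnt y hy hyK) (hnt _ (M.mul_mem hx hy) hxyK) _ le_sup_left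
          ?_ ?_ ?_
        · intro z hz hc
          exact (le_sup_left.trans (le_sup_left.trans le_sup_right) :
            L ⊓ centralizer ({x} : Set G) ≤ _) ⟨hz, mem_centralizer_singleton_iff.2 hc⟩
        · intro z hz hc
          exact (le_sup_right.trans (le_sup_left.trans le_sup_right) :
            L ⊓ centralizer ({y} : Set G) ≤ _) ⟨hz, mem_centralizer_singleton_iff.2 hc⟩
        · intro z hz hc
          exact (le_sup_right.trans le_sup_right :
            L ⊓ centralizer ({x * y} : Set G) ≤ _) ⟨hz, mem_centralizer_singleton_iff.2 hc⟩ }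

section standard

variable {G : Type u} [Group G]

/-- the elementwise consequences of `IsStandardSubgroup` -/
theorem std_t1 {L : Subgroup G} (hL : Cfsg.IsStandardSubgroup L) {y : G}
    (hy : y ∈ centralizer (L : Set G)) (hy2 : y * y = 1) (hy1 : y ≠ 1) {c : G} (hc : c * y = y * c) :
    c ∈ normalizer (L : Set G) := by
  by_contra hcon
  have h1 := hL.2.1.2 c (by rw [← hL.2.2.2]; exact hcon)
  apply (Nat.not_even_iff_odd.2 h1)
  rw [even_iff_two_dvd]
  have h2 : y ∈ centralizer (L : Set G) ⊓ (centralizer (L : Set G)).map (MulAut.conj c).toMonoidHom := by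
    refine ⟨hy, y, hy, ?_⟩
    change c * y * c⁻¹ = y
    rw [hc, mul_inv_cancel_right]
  have h3 : orderOf y = 2 := orderOf_eq_prime (by rw [sq, hy2]) hy1
  rw [← h3]
  exact Subgroup.orderOf_dvd_natCard _ h2

theorem std_t2 {L : Subgroup G} (hL : Cfsg.IsStandardSubgroup L) {g : G}
    (hg : g ∉ normalizer (L : Set G)) {y : G} (hy : y ∈ centralizer (L : Set G)) (hy2 : y * y = 1)
    (hy1 : y ≠ 1) : g * y * g⁻¹ ∉ centralizer (L : Set G) := by
  intro hcon
  have h1 := hL.2.1.2 g (by rw [← hL.2.2.2]; exact hg)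
  apply (Nat.not_even_iff_odd.2 h1)
  rw [even_iff_two_dvd]
  have h2 : g * y * g⁻¹ ∈ centralizer (L : Set G) ⊓
      (centralizer (L : Set G)).map (MulAut.conj g).toMonoidHom := ⟨hcon, y, hy, rfl⟩
  have h3 : orderOf (g * y * g⁻¹) = 2 := by
    refine orderOf_eq_prime ?_ ?_
    · rw [sq]
      calc g * y * g⁻¹ * (g * y * g⁻¹) = g * (y * y) * g⁻¹ := by group
        _ = 1 := by rw [hy2]; group
    · intro h
      apply hy1
      calc y = g⁻¹ * (g * y * g⁻¹) * g := by group
        _ = 1 := by rw [h]; group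
  rw [← h3]
  exact Subgroup.orderOf_dvd_natCard _ h2

theorem std_t3 {L : Subgroup G} (hL : Cfsg.IsStandardSubgroup L) {g : G}
    (hg : g ∉ normalizer (L : Set G)) : ∃ x ∈ L, ∀ k ∈ centralizer (L : Set G), g * k * g⁻¹ ≠ x := by
  by_contra hcon
  push Not at hcon
  have hne : L.map (MulAut.conj g).toMonoidHom ≠ L := by
    intro h
    apply hg
    rw [Subgroup.mem_normalizer_iff]
    intro x
    constructor
    · intro hx
      rw [← h]
      exact ⟨x, hx, rfl⟩
    · intro hx
      rw [← h] at hx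
      obtain ⟨y, hy, hyx⟩ := hx
      have h1 : g * y * g⁻¹ = g * x * g⁻¹ := hyx
      have h2 : y = x := by
        have := mul_right_cancel h1
        exact mul_left_cancel this
      rw [← h2]; exact hy
  apply hL.2.2.1 g hne
  rw [Subgroup.commutator_eq_bot_iff_le_centralizer]
  intro x hx
  obtain ⟨k, hk, rfl⟩ := hcon x hx
  rw [Subgroup.mem_centralizer_iff]
  rintro _ ⟨y, hy, rfl⟩
  change g * y * g⁻¹ * (g * k * g⁻¹) = g * k * g⁻¹ * (g * y * g⁻¹)
  have h1 := (Subgroup.mem_centralizer_iff.1 hk) y hy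
  calc g * y * g⁻¹ * (g * k * g⁻¹) = g * (y * k) * g⁻¹ := by group
    _ = g * (k * y) * g⁻¹ := by rw [h1]
    _ = _ := by group

/-- **`SL.Data` for a standard subgroup** `L` (simple, with (Gam)) and a four-group in `C_G(L)` -/
theorem Data.of_standard [Finite G] {L : Subgroup G} (hL : Cfsg.IsStandardSubgroup L)
    (hs : IsSimpleGroup L) (hev : ¬ Odd (Nat.card L)) (hnab : ∃ a ∈ L, ∃ b ∈ L, a * b ≠ b * a)
    (t4 : ∃ a ∈ centralizer (L : Set G), ∃ b ∈ centralizer (L : Set G), a * a = 1 ∧ b * b = 1 ∧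
      a * b = b * a ∧ a ≠ 1 ∧ b ≠ 1 ∧ a ≠ b)
    (gam : ∀ a ∈ normalizer (L : Set G), ∀ b ∈ normalizer (L : Set G), a * a = 1 → b * b = 1 →
      a * b = b * a → a ∉ centralizer (L : Set G) → b ∉ centralizer (L : Set G) →
      a * b ∉ centralizer (L : Set G) → L ≤ (L ⊓ centralizer ({a} : Set G)) ⊔
        (L ⊓ centralizer ({b} : Set G)) ⊔ (L ⊓ centralizer ({a * b} : Set G))) :
    Data (normalizer (L : Set G)) L (centralizer (L : Set G)) ⊥ := by
  have hnL : ∀ m ∈ normalizer (L : Set G), ∀ x ∈ L, m * x * m⁻¹ ∈ L := fun m hm x hx =>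
    (Subgroup.mem_normalizer_iff.1 hm x).1 hx
  have hnK : ∀ m ∈ normalizer (L : Set G), ∀ x ∈ centralizer (L : Set G),
      m * x * m⁻¹ ∈ centralizer (L : Set G) := by
    intro m hm x hx
    rw [hL.2.2.2] at hm
    exact (Subgroup.mem_normalizer_iff.1 hm x).1 hx
  exact
    { LM := Subgroup.le_normalizer
      KM := by rw [hL.2.2.2]; exact Subgroup.le_normalizer
      WL := bot_le
      WK := bot_le
      oddW := by rw [Subgroup.card_bot]; exact odd_one
      evenL := hev
      nW := by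
        intro m _ w hw
        rw [Subgroup.mem_bot] at hw ⊢
        rw [hw]; group
      nL := hnL
      nK := hnK
      comm := by
        intro x hx k hk
        rw [Subgroup.mem_bot]
        have h1 := (Subgroup.mem_centralizer_iff.1 hk) x hx
        rw [h1]; group
      full := by
        intro m _ h
        rw [Subgroup.mem_centralizer_iff]
        intro x hx
        have h1 := h x hx
        rw [Subgroup.mem_bot] at h1
        calc x * m = (m * x * m⁻¹ * x⁻¹) * x * m := by rw [h1, one_mul]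
          _ = m * x := by group
      simple := by
        intro N _ hNL hN
        have hNn : (N.subgroupOf L).Normal := by
          constructor
          intro n hn' g
          exact hN g g.2 n hn'
        rcases hNn.eq_bot_or_eq_top with h2 | h2
        · left
          rw [eq_bot_iff]
          intro x hx
          have h3 : (⟨x, hNL hx⟩ : L) ∈ N.subgroupOf L := hx
          rw [h2, Subgroup.mem_bot] at h3
          rw [Subgroup.mem_bot]
          exact congrArg Subtype.val h3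
        · right
          exact le_antisymm hNL (Subgroup.subgroupOf_eq_top.1 h2)
      nab := by
        obtain ⟨a, ha, b, hb, hab⟩ := hnab
        intro h
        apply hab
        have h1 := h a ha b hb
        rw [Subgroup.mem_bot] at h1
        calc a * b = (a * b * a⁻¹ * b⁻¹) * (b * a) := by group
          _ = b * a := by rw [h1, one_mul]
      t1 := fun y hy hy2 hy1 c hc => std_t1 hL hy hy2 hy1 hc
      t2 := fun g hg y hy hy2 hy1 => std_t2 hL hg hy hy2 hy1
      t3 := by
        intro g hg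
        obtain ⟨x, hx, h⟩ := std_t3 hL hg
        refine ⟨x, hx, ?_⟩
        intro k hk _ h1
        rw [Subgroup.mem_bot, inv_mul_eq_one] at h1
        exact h k hk h1
      t4 := t4
      gam := by
        intro a ha b hb haa hbb hab haK hbK habK
        rw [bot_sup_eq]
        exact gam a ha b hb haa hbb hab haK hbK habK }

/-- transport of a representation -/
noncomputable def repCongr {F : Type*} [Field F] {A B : Type*} [Group A] [Group B]
    (R : Cfsg.Agent.GH.L2Aut.Rep F A) (e : A ≃* B) : Cfsg.Agent.GH.L2Aut.Rep F B where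
  π := e.toMonoidHom.comp R.π
  surj := e.surjective.comp R.surj
  ker := by
    intro x
    rw [← R.ker]
    exact e.map_eq_one_iff
  two := R.two

/-- **`SL.Data` for a standard subgroup `L ≅ PSL(2,F)`**, `|F| ≥ 11` odd, and a four-group in `C_G(L)` -/
theorem Data.of_standard_L2 [Finite G] {L : Subgroup G} (hL : Cfsg.IsStandardSubgroup L)
    {F : Type*} [Field F] [Finite F] (R : Cfsg.Agent.GH.L2Aut.Rep F L) (hq : 11 ≤ Nat.card F)
    (t4 : ∃ a ∈ centralizer (L : Set G), ∃ b ∈ centralizer (L : Set G), a * a = 1 ∧ b * b = 1 ∧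
      a * b = b * a ∧ a ≠ 1 ∧ b ≠ 1 ∧ a ≠ b) :
    Data (normalizer (L : Set G)) L (centralizer (L : Set G)) ⊥ := by
  have hb : (⊥ : Subgroup G).subgroupOf L = ⊥ := by
    rw [eq_bot_iff]
    intro x hx
    rw [Subgroup.mem_subgroupOf, Subgroup.mem_bot] at hx
    rw [Subgroup.mem_bot]
    exact Subtype.ext hx
  have hn : ((⊥ : Subgroup G).subgroupOf L).Normal := by rw [hb]; infer_instance
  let e : L ≃* L ⧸ (⊥ : Subgroup G).subgroupOf L :=
    (QuotientGroup.quotientBot (G := L)).symm.trans (QuotientGroup.quotientMulEquivOfEq hb.symm)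
  refine Data.of_L2 (F := F) Subgroup.le_normalizer (by rw [hL.2.2.2]; exact Subgroup.le_normalizer)
    bot_le bot_le (by rw [Subgroup.card_bot]; exact odd_one) ?_ ?_ ?_ ?_ ?_ hn (repCongr R e) hq ?_ ?_ ?_ t4
  · intro m _ w hw
    rw [Subgroup.mem_bot] at hw ⊢
    rw [hw]; group
  · intro m hm x hx
    exact (Subgroup.mem_normalizer_iff.1 hm x).1 hx
  · intro m hm x hx
    rw [hL.2.2.2] at hm
    exact (Subgroup.mem_normalizer_iff.1 hm x).1 hx
  · intro x hx k hk
    rw [Subgroup.mem_bot]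
    have h1 := (Subgroup.mem_centralizer_iff.1 hk) x hx
    rw [h1]; group
  · intro m _ h
    rw [Subgroup.mem_centralizer_iff]
    intro x hx
    have h1 := h x hx
    rw [Subgroup.mem_bot] at h1
    calc x * m = (m * x * m⁻¹ * x⁻¹) * x * m := by rw [h1, one_mul]
      _ = m * x := by group
  · exact fun y hy hy2 hy1 c hc => std_t1 hL hy hy2 hy1 hc
  · exact fun g hg y hy hy2 hy1 => std_t2 hL hg hy hy2 hy1
  · intro g hg
    obtain ⟨x, hx, h⟩ := std_t3 hL hg
    refine ⟨x, hx, ?_⟩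
    intro k hk _ h1
    rw [Subgroup.mem_bot, inv_mul_eq_one] at h1
    exact h k hk h1

end standard

end Cfsg.Agent.UGT.SL
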