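import Cfsg.Agent.UGT.SL.GamL2

/-!
# (Gam) for `L/W ≅ PSL(2,F)`, `W` of odd order, inside a group `G`
-/

set_option autoImplicit false

namespace Cfsg.Agent.UGT.SL

open Cfsg.Agent.GH.L2Aut

variable {G : Type*} [Group G]

/-- fixed points modulo a subgroup of odd order lift: `a` an involution, `a x⁻¹ a x ∈ W` -/
theorem exists_fix_lift {W : Subgroup G} (hW : Odd (Nat.card W)) {a x : G} (ha : a * a = 1)
    (hu : a * (x⁻¹ * a * x) ∈ W) : ∃ w ∈ W, (x * w) * a = a * (x * w) := by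
  obtain ⟨u, hue⟩ : ∃ u, u = a * (x⁻¹ * a * x) := ⟨_, rfl⟩
  rw [← hue] at hu
  have hainv : a⁻¹ = a := inv_eq_of_mul_eq_one_left ha
  have hinv : a * u * a = u⁻¹ := by
    rw [hue]
    have h1 : (a * (x⁻¹ * a * x))⁻¹ = x⁻¹ * a⁻¹ * x * a⁻¹ := by group
    rw [h1, hainv, ← mul_assoc a a, ha, one_mul]
  have hordW : orderOf (⟨u, hu⟩ : W) ∣ Nat.card W := orderOf_dvd_natCard _
  have hodd : Odd (orderOf u) := by
    have h1 : orderOf (⟨u, hu⟩ : W) = orderOf u := Subgroup.orderOf_mk _ _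
    rw [← h1]
    obtain ⟨m, hm⟩ := hordW
    rw [hm] at hW
    exact (Nat.odd_mul.1 hW).1
  obtain ⟨k, hk⟩ := hodd
  obtain ⟨v, hv⟩ : ∃ v, v = u ^ (k + 1) := ⟨_, rfl⟩
  have hvv : v * v = u := by
    rw [hv, ← pow_add, show k + 1 + (k + 1) = orderOf u + 1 by omega, pow_succ, pow_orderOf_eq_one,
      one_mul]
  have hav : a * v * a = v⁻¹ := by
    have h1 : ∀ n : ℕ, a * u ^ n * a = (u ^ n)⁻¹ := by
      intro n
      induction n with
      | zero => rw [pow_zero, mul_one, ha, inv_one]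
      | succ n ih =>
        calc a * u ^ (n + 1) * a = a * u ^ n * (a * a) * u * a := by rw [ha, pow_succ]; group
          _ = (a * u ^ n * a) * (a * u * a) := by group
          _ = (u ^ (n + 1))⁻¹ := by rw [ih, hinv]; group
    rw [hv]; exact h1 _
  have hx : x⁻¹ * a * x = a * (v * v) := by
    rw [hvv, hue, ← mul_assoc a a, ha, one_mul]
  refine ⟨v⁻¹, inv_mem (by rw [hv]; exact pow_mem hu _), ?_⟩
  have h1 : a * v = v⁻¹ * a := by
    calc a * v = (a * v * a) * a := by rw [mul_assoc, ha, mul_one]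
      _ = v⁻¹ * a := by rw [hav]
  calc (x * v⁻¹) * a = x * (v⁻¹ * a) := by group
    _ = x * (a * v) := by rw [h1]
    _ = x * (a * (v * v)) * v⁻¹ := by group
    _ = x * (x⁻¹ * a * x) * v⁻¹ := by rw [hx]
    _ = a * (x * v⁻¹) := by group

section act

variable {L W : Subgroup G}

/-- the action of an element of `N(L) ∩ N(W)` on `L/W` -/
noncomputable def act (hn : (W.subgroupOf L).Normal) (hWL : W ≤ L) (a : G)
    (haL : a ∈ Subgroup.normalizer (L : Set G)) (haW : a ∈ Subgroup.normalizer (W : Set G)) :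
    MulAut (L ⧸ W.subgroupOf L) :=
  QuotientGroup.congr (W.subgroupOf L) (W.subgroupOf L) (Subgroup.normalizerMonoidHom L ⟨a, haL⟩) (by
    ext x
    constructor
    · rintro ⟨y, hy, rfl⟩
      exact (Subgroup.mem_normalizer_iff.1 haW y).1 hy
    · intro hx
      have h1 : a⁻¹ * (x : G) * a ∈ W := by
        have h2 := (Subgroup.mem_normalizer_iff.1 (inv_mem haW) x).1 hx
        rwa [inv_inv] at h2
      refine ⟨⟨a⁻¹ * (x : G) * a, hWL h1⟩, h1, ?_⟩
      apply Subtype.ext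
      change a * (a⁻¹ * (x : G) * a) * a⁻¹ = x
      group)

theorem act_mk (hn : (W.subgroupOf L).Normal) (hWL : W ≤ L) (a : G)
    (haL : a ∈ Subgroup.normalizer (L : Set G)) (haW : a ∈ Subgroup.normalizer (W : Set G))
    (x : L) : act hn hWL a haL haW (x : L ⧸ W.subgroupOf L) =
      ((⟨a * x * a⁻¹, (Subgroup.mem_normalizer_iff.1 haL _).1 x.2⟩ : L) : L ⧸ W.subgroupOf L) := rfl

theorem act_mul (hn : (W.subgroupOf L).Normal) (hWL : W ≤ L) (a b : G)
    (haL : a ∈ Subgroup.normalizer (L : Set G)) (haW : a ∈ Subgroup.normalizer (W : Set G))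
    (hbL : b ∈ Subgroup.normalizer (L : Set G)) (hbW : b ∈ Subgroup.normalizer (W : Set G)) :
    act hn hWL (a * b) (mul_mem haL hbL) (mul_mem haW hbW) =
      act hn hWL a haL haW * act hn hWL b hbL hbW := by
  apply MulEquiv.ext
  intro y
  induction y using QuotientGroup.induction_on with
  | _ x =>
  rw [MulAut.mul_apply, act_mk, act_mk, act_mk]
  congr 1
  apply Subtype.ext
  change a * b * x * (a * b)⁻¹ = a * (b * x * b⁻¹) * a⁻¹
  group

theorem act_eq_one_iff (hn : (W.subgroupOf L).Normal) (hWL : W ≤ L) (a : G)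
    (haL : a ∈ Subgroup.normalizer (L : Set G)) (haW : a ∈ Subgroup.normalizer (W : Set G)) :
    act hn hWL a haL haW = 1 ↔ ∀ x ∈ L, x⁻¹ * (a * x * a⁻¹) ∈ W := by
  constructor
  · intro h x hx
    have h1 := DFunLike.congr_fun h ((⟨x, hx⟩ : L) : L ⧸ W.subgroupOf L)
    rw [act_mk, MulAut.one_apply, eq_comm, QuotientGroup.eq] at h1
    exact h1
  · intro h
    apply MulEquiv.ext
    intro y
    induction y using QuotientGroup.induction_on with
    | _ x =>
    rw [act_mk, MulAut.one_apply, eq_comm, QuotientGroup.eq]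
    exact h x x.2

theorem act_fix_iff (hn : (W.subgroupOf L).Normal) (hWL : W ≤ L) (a : G)
    (haL : a ∈ Subgroup.normalizer (L : Set G)) (haW : a ∈ Subgroup.normalizer (W : Set G)) (x : L) :
    act hn hWL a haL haW (x : L ⧸ W.subgroupOf L) = x ↔ (x : G)⁻¹ * (a * x * a⁻¹) ∈ W := by
  rw [act_mk, eq_comm, QuotientGroup.eq]
  exact Iff.rfl

/-- fixed points of `a` on `L/W` are covered by `C_L(a)` -/
theorem act_fix (hn : (W.subgroupOf L).Normal) (hWL : W ≤ L) (hW : Odd (Nat.card W)) {a : G}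
    (haa : a * a = 1) (haL : a ∈ Subgroup.normalizer (L : Set G))
    (haW : a ∈ Subgroup.normalizer (W : Set G)) {x : L}
    (h : act hn hWL a haL haW (x : L ⧸ W.subgroupOf L) = x) :
    ∃ w ∈ W, ((x : G) * w) * a = a * ((x : G) * w) := by
  rw [act_fix_iff] at h
  have hainv : a⁻¹ = a := inv_eq_of_mul_eq_one_left haa
  apply exists_fix_lift hW haa
  -- `a x⁻¹ a x = (a (x⁻¹ (a x a⁻¹))) a⁻¹`
  have h1 : a * ((x : G)⁻¹ * a * x) = a * ((x : G)⁻¹ * (a * x * a⁻¹)) * a⁻¹ := by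
    rw [hainv]
    simp only [mul_assoc, haa, mul_one]
  rw [h1]
  exact (Subgroup.mem_normalizer_iff.1 haW _).1 h

end act

/-- **(Gam) modulo a subgroup of odd order**: `L/W ≅ PSL(2,F)`, `|F| ≥ 11` odd, `a`, `b` commuting involutions of
`N(L) ∩ N(W)`, none of `a`, `b`, `ab` trivial on `L/W`. A subgroup containing `W`, `C_L(a)`, `C_L(b)` and `C_L(ab)`
contains `L`. -/
theorem gam_mod {F : Type*} [Field F] [Finite F] {L W : Subgroup G} (hn : (W.subgroupOf L).Normal)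
    (hWL : W ≤ L) (hW : Odd (Nat.card W)) (R : Cfsg.Agent.GH.L2Aut.Rep F (L ⧸ W.subgroupOf L))
    (hq : 11 ≤ Nat.card F) {a b : G} (haa : a * a = 1) (hbb : b * b = 1) (hab : a * b = b * a)
    (haL : a ∈ Subgroup.normalizer (L : Set G)) (haW : a ∈ Subgroup.normalizer (W : Set G))
    (hbL : b ∈ Subgroup.normalizer (L : Set G)) (hbW : b ∈ Subgroup.normalizer (W : Set G))
    (ha : ∃ x ∈ L, x⁻¹ * (a * x * a⁻¹) ∉ W) (hb : ∃ x ∈ L, x⁻¹ * (b * x * b⁻¹) ∉ W)
    (hc : ∃ x ∈ L, x⁻¹ * ((a * b) * x * (a * b)⁻¹) ∉ W) (H : Subgroup G) (hWH : W ≤ H)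
    (h1 : ∀ x ∈ L, x * a = a * x → x ∈ H) (h2 : ∀ x ∈ L, x * b = b * x → x ∈ H)
    (h3 : ∀ x ∈ L, x * (a * b) = (a * b) * x → x ∈ H) : L ≤ H := by
  have hsq : ∀ (c : G) (hcL : c ∈ Subgroup.normalizer (L : Set G))
      (hcW : c ∈ Subgroup.normalizer (W : Set G)), c * c = 1 →
      act hn hWL c hcL hcW * act hn hWL c hcL hcW = 1 := by
    intro c hcL hcW hcc
    rw [← act_mul, act_eq_one_iff]
    intro x _
    have h4 : x⁻¹ * (c * c * x * (c * c)⁻¹) = 1 := by rw [hcc]; group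
    rw [h4]
    exact one_mem _
  have hne : ∀ (c : G) (hcL : c ∈ Subgroup.normalizer (L : Set G))
      (hcW : c ∈ Subgroup.normalizer (W : Set G)), (∃ x ∈ L, x⁻¹ * (c * x * c⁻¹) ∉ W) →
      act hn hWL c hcL hcW ≠ 1 := by
    intro c hcL hcW ⟨x, hx, hxW⟩ h
    exact hxW ((act_eq_one_iff hn hWL c hcL hcW).1 h x hx)
  have hcov : ∀ (c : G) (hcL : c ∈ Subgroup.normalizer (L : Set G))
      (hcW : c ∈ Subgroup.normalizer (W : Set G)), c * c = 1 → (∀ x ∈ L, x * c = c * x → x ∈ H) →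
      ∀ y, act hn hWL c hcL hcW y = y →
        y ∈ (H.subgroupOf L).map (QuotientGroup.mk' (W.subgroupOf L)) := by
    intro c hcL hcW hcc hH y hy
    obtain ⟨x, rfl⟩ := QuotientGroup.mk_surjective y
    obtain ⟨w, hw, hwc⟩ := act_fix hn hWL hW hcc hcL hcW hy
    have hxw : (x : G) * w ∈ L := mul_mem x.2 (hWL hw)
    refine ⟨⟨(x : G) * w, hxw⟩, hH _ hxw hwc, ?_⟩
    change ((⟨(x : G) * w, hxw⟩ : L) : L ⧸ W.subgroupOf L) = x
    rw [eq_comm, QuotientGroup.eq]
    change (x : G)⁻¹ * ((x : G) * w) ∈ W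
    rwa [inv_mul_cancel_left]
  have habab : (a * b) * (a * b) = 1 := by
    calc (a * b) * (a * b) = a * (b * a) * b := by group
      _ = a * (a * b) * b := by rw [hab]
      _ = (a * a) * (b * b) := by group
      _ = 1 := by rw [haa, hbb, one_mul]
  have key := gam_pair R hq (hsq a haL haW haa) (hsq b hbL hbW hbb) (hne a haL haW ha)
    (hne b hbL hbW hb) (fun h => by
      have h4 := hne (a * b) (mul_mem haL hbL) (mul_mem haW hbW) hc
      apply h4
      rw [act_mul hn hWL a b haL haW hbL hbW, ← h]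
      exact hsq a haL haW haa)
    (by
      rw [← act_mul, ← act_mul]
      congr 1)
    ((H.subgroupOf L).map (QuotientGroup.mk' (W.subgroupOf L)))
    (hcov a haL haW haa h1) (hcov b hbL hbW hbb h2) (by
      intro y hy
      apply hcov (a * b) (mul_mem haL hbL) (mul_mem haW hbW) habab h3
      rw [act_mul, MulAut.mul_apply]
      exact hy)
  intro x hx
  have h4 : ((⟨x, hx⟩ : L) : L ⧸ W.subgroupOf L) ∈
      (H.subgroupOf L).map (QuotientGroup.mk' (W.subgroupOf L)) := by rw [key]; trivial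
  obtain ⟨y, hy, hyx⟩ := h4
  have h5 : (y : L ⧸ W.subgroupOf L) = ((⟨x, hx⟩ : L) : L ⧸ W.subgroupOf L) := hyx
  rw [QuotientGroup.eq] at h5
  have h6 : (y : G)⁻¹ * x ∈ W := h5
  have h7 : x = (y : G) * ((y : G)⁻¹ * x) := by group
  rw [h7]
  exact mul_mem hy (hWH h6)

end Cfsg.Agent.UGT.SL
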